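import Groth.Agent.Lib.Cech.Compare
import Groth.Prelude.Def_CohTop
import Mathlib.Topology.Sheaves.SheafCondition.Sites

/-!
# Cech cohomology on topological spaces
-/

universe u

open CategoryTheory Limits Opposite TopologicalSpace GrothLib.SheafCoh

namespace GrothLib.Cech

variable {X : TopCat.{u}} {ι : Type u} (U : ι → Opens X)

lemma obj_eq_iInf {n : ℕ} (a : Fin (n + 1) → ι) : obj U a = ⨅ k, U (a k) :=
  le_antisymm (le_iInf fun k => (Pi.π (fun k => U (a k)) k).le)
    (leOfHom (Pi.lift fun k => homOfLE (iInf_le (fun k => U (a k)) k)))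

theorem injective_presheaf {C : Type u} [SmallCategory C] {J : GrothendieckTopology C}
    (I : Sheaf J AddCommGrpCat.{u}) [hI : Injective I] : Injective I.obj := by
  have : (presheafToSheaf J AddCommGrpCat.{u}).PreservesMonomorphisms := inferInstance
  exact @Injective.injective_of_adjoint _ _ _ _ _ _ this (sheafificationAdjunction J AddCommGrpCat.{u}) I hI

theorem isZero_cechH_injective (I : CohTop.Ab X) [hI : Injective I] (n : ℕ) :
    IsZero (CohTop.cechH I.obj U (n + 1)) :=
  have : Injective I.obj := injective_presheaf (J := Opens.grothendieckTopology X) I (hI := hI)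
  isZero_homology_of_injective U I.obj n

/-- Cech cohomology of a family of opens with acyclic finite intersections. -/
theorem nonempty_cechH_addEquiv (F : CohTop.Ab X)
    (h : ∀ (p : ℕ) (a : Fin (p + 1) → ι) (q : ℕ),
      Subsingleton (CohTop.HU F (q + 1) (⨅ k, U (a k)))) (p : ℕ) :
    Nonempty (CohTop.cechH F.obj U p ≃+ CohTop.HU F p (iSup U)) :=
  nonempty_homology_addEquiv (J := Opens.grothendieckTopology X) (𝟭 (Opens X)) U
    (fun i => homOfLE (le_iSup U i)) (fun _ _ _ _ _ => Subsingleton.elim _ _)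
    (fun x hx => by
      obtain ⟨i, hi⟩ := Opens.mem_iSup.1 hx
      exact ⟨U i, homOfLE (le_iSup U i), ⟨U i, 𝟙 _, homOfLE (le_iSup U i), ⟨i⟩, Category.id_comp _⟩, hi⟩)
    (fun Z i k g₁ g₂ _ => ⟨Z, g₁, g₂, 𝟙 Z, Subsingleton.elim _ _, Subsingleton.elim _ _⟩)
    (fun I hI n => isZero_cechH_injective U I (hI := hI) n) p F
    (acyc_of_HU _ _ F fun n a q => by
      have := h n a q
      rw [← obj_eq_iInf] at this
      exact this)

end GrothLib.Cech
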