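import Groth.Agent.Lib.Cech.Opens
import Groth.Prelude.Def_CohCx

/-!
# Cech cohomology on sites with fibre products
-/

universe u

open CategoryTheory Limits Opposite GrothLib.SheafCoh

namespace GrothLib.Cech

variable {C : Type u} [SmallCategory C] {U : C}

/-- Godement presheaves restrict to retracts of Godement presheaves. -/
noncomputable def godementOverHom (A : C → AddCommGrpCat.{u}) :
    (Over.forget U).op ⋙ godement A ⟶ godement (fun W : Over U => A W.left) where
  app W := AddCommGrpCat.ofHom (AddMonoidHom.mk'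
    (fun s (V : Over U) (g : V ⟶ W.unop) => (s : ∀ V : C, (V ⟶ W.unop.left) → A V) V.left g.left)
    (fun _ _ => rfl))
  naturality _ _ _ := rfl

/-- The inverse of `godementOverHom`. -/
noncomputable def godementOverInv (A : C → AddCommGrpCat.{u}) :
    godement (fun W : Over U => A W.left) ⟶ (Over.forget U).op ⋙ godement A where
  app W := AddCommGrpCat.ofHom (AddMonoidHom.mk'
    (fun s (V : C) (g : V ⟶ W.unop.left) =>
      (s : ∀ V : Over U, (V ⟶ W.unop) → A V.left) (Over.mk (g ≫ W.unop.hom)) (Over.homMk g))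
    (fun _ _ => rfl))
  naturality W W' f := by
    ext s
    funext V g
    change (s : ∀ V : Over U, (V ⟶ W.unop) → A V.left) (Over.mk (g ≫ W'.unop.hom))
        (Over.homMk g ≫ f.unop) =
      (s : ∀ V : Over U, (V ⟶ W.unop) → A V.left) (Over.mk ((g ≫ f.unop.left) ≫ W.unop.hom))
        (Over.homMk (g ≫ f.unop.left))
    have h : ∀ (b : V ⟶ U) (φ : Over.mk b ⟶ W.unop) (b' : V ⟶ U) (φ' : Over.mk b' ⟶ W.unop),
        b = b' → φ.left = φ'.left →
          (s : ∀ V : Over U, (V ⟶ W.unop) → A V.left) (Over.mk b) φ =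
            (s : ∀ V : Over U, (V ⟶ W.unop) → A V.left) (Over.mk b') φ' := by
      intro b φ b' φ' hb hφ
      subst hb
      obtain rfl : φ = φ' := Over.OverMorphism.ext hφ
      rfl
    exact h _ _ _ _ ((congrArg (g ≫ ·) (Over.w f.unop).symm).trans (Category.assoc _ _ _).symm) rfl

lemma godementOverHom_inv (A : C → AddCommGrpCat.{u}) :
    godementOverHom (U := U) A ≫ godementOverInv A = 𝟙 _ := by
  ext W s
  rfl

variable [HasPullbacks C]

theorem isZero_cechH_of_injective_presheaf (P : Cᵒᵖ ⥤ AddCommGrpCat.{u}) [Injective P] {ι : Type u}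
    (Y : ι → Over U) (n : ℕ) : IsZero (CohCx.cechH P Y (n + 1)) := by
  let A : C → AddCommGrpCat.{u} := fun V => P.obj (op V)
  have hG : IsZero ((cx Y (godement fun W : Over U => A W.left)).homology (n + 1)) := by
    rw [← HomologicalComplex.exactAt_iff_isZero_homology,
      HomologicalComplex.exactAt_iff' _ n (n + 1) (n + 2) (by simp) (by simp),
      ShortComplex.ab_exact_iff]
    exact godement_exact Y _ n
  let r : godement A ⟶ P := Injective.factorThru (𝟙 P) (toGodement P)
  let a : (Over.forget U).op ⋙ P ⟶ godement (fun W : Over U => A W.left) :=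
    Functor.whiskerLeft (Over.forget U).op (toGodement P) ≫ godementOverHom A
  let b : godement (fun W : Over U => A W.left) ⟶ (Over.forget U).op ⋙ P :=
    godementOverInv A ≫ Functor.whiskerLeft (Over.forget U).op r
  have hab : a ≫ b = 𝟙 _ := by
    simp only [a, b, Category.assoc]
    rw [← Category.assoc (godementOverHom A), godementOverHom_inv, Category.id_comp,
      ← Functor.whiskerLeft_comp, Injective.comp_factorThru, Functor.whiskerLeft_id']
  rw [IsZero.iff_id_eq_zero, ← HomologicalComplex.homologyMap_id,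
    ← (cechComplexFunctor (A := AddCommGrpCat.{u}) Y).map_id, ← hab, Functor.map_comp,
    HomologicalComplex.homologyMap_comp, hG.eq_of_tgt (HomologicalComplex.homologyMap _ _) 0,
    zero_comp]

/-- Cech cohomology of a covering family with acyclic iterated fibre products. -/
theorem nonempty_cechH_addEquiv_site {J : GrothendieckTopology C} (F : Sheaf J AddCommGrpCat.{u})
    {ι : Type u} (Y : ι → Over U)
    (hY : Sieve.ofArrows (fun i => (Y i).left) (fun i => (Y i).hom) ∈ J U)
    (h : ∀ (p : ℕ) (a : Fin (p + 1) → ι) (q : ℕ),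
      Subsingleton (CohSite.HU F (q + 1) (∏ᶜ fun k => Y (a k)).left))
    (p : ℕ) : Nonempty (CohCx.cechH F.obj Y p ≃+ CohSite.HU F p U) :=
  nonempty_homology_addEquiv (Over.forget U) Y (fun i => (Y i).hom)
    (fun W i k f g => (Over.w f).trans (Over.w g).symm) hY
    (fun Z i k g₁ g₂ hg => ⟨Over.mk (g₁ ≫ (Y i).hom), Over.homMk g₁, Over.homMk g₂ hg.symm, 𝟙 Z,
      Category.id_comp _, Category.id_comp _⟩)
    (fun I hI n => @isZero_cechH_of_injective_presheaf _ _ _ _ I.obj (injective_presheaf I (hI := hI)) _ Y n)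
    p F (acyc_of_HU _ _ F h)

end GrothLib.Cech
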