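import Mathlib.CategoryTheory.Sites.SheafCohomology.Cech
import Mathlib.CategoryTheory.Limits.Shapes.ConcreteCategory
import Mathlib.Algebra.Category.Grp.Abelian
import Mathlib.Algebra.Category.Grp.Limits
import Mathlib.Algebra.Category.Grp.EpiMono
import Mathlib.Algebra.Homology.ShortComplex.Ab
import Mathlib.Algebra.Homology.ShortComplex.HomologicalComplex
import Mathlib.CategoryTheory.Abelian.FunctorCategory
import Mathlib.CategoryTheory.Preadditive.Injective.Basic

/-!
# Cech complexes of presheaves of abelian groups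

Coordinates for Mathlib's `cechComplexFunctor`, and vanishing in positive degrees for injective
presheaves.
-/

universe u

open CategoryTheory Limits Opposite

namespace GrothLib.Cech

variable {D : Type u} [SmallCategory D] [HasFiniteProducts D] {ι : Type u} (U : ι → D)
  (P : Dᵒᵖ ⥤ AddCommGrpCat.{u})

/-- The product of a tuple of members of the family. -/
noncomputable abbrev obj {n : ℕ} (a : Fin (n + 1) → ι) : D := ∏ᶜ fun k => U (a k)

/-- The Cech complex. -/
noncomputable abbrev cx : CochainComplex AddCommGrpCat.{u} ℕ := (cechComplexFunctor U).obj P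

/-- The `a`-th coordinate of a cochain. -/
noncomputable def ev {n : ℕ} (a : Fin (n + 1) → ι) : (cx U P).X n ⟶ P.obj (op (obj U a)) :=
  Pi.π (fun a : Fin (n + 1) → ι => P.obj (op (obj U a))) a

lemma ext {n : ℕ} {x y : (cx U P).X n}
    (h : ∀ a : Fin (n + 1) → ι, ev U P a x = ev U P a y) : x = y :=
  (Concrete.productEquiv fun a : Fin (n + 1) → ι => P.obj (op (obj U a))).injective
    (funext fun a => (Concrete.productEquiv_apply_apply _ x a).trans
      ((h a).trans (Concrete.productEquiv_apply_apply _ y a).symm))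

/-- A cochain from its coordinates. -/
noncomputable def mk {n : ℕ} (x : ∀ a : Fin (n + 1) → ι, P.obj (op (obj U a))) : (cx U P).X n :=
  (Concrete.productEquiv fun a : Fin (n + 1) → ι => P.obj (op (obj U a))).symm x

@[simp]
lemma ev_mk {n : ℕ} (x : ∀ a : Fin (n + 1) → ι, P.obj (op (obj U a))) (a : Fin (n + 1) → ι) :
    ev U P a (mk U P x) = x a :=
  Concrete.productEquiv_symm_apply_π _ x a

/-- Forget the `k`-th factor. -/
noncomputable abbrev proj {n : ℕ} (a : Fin (n + 2) → ι) (k : Fin (n + 2)) :
    obj U a ⟶ obj U (fun l => a (k.succAbove l)) :=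
  Pi.lift fun l => Pi.π (fun k => U (a k)) (k.succAbove l)

lemma ev_d {n : ℕ} (a : Fin (n + 2) → ι) (x : (cx U P).X n) :
    ev U P a ((cx U P).d n (n + 1) x) =
      ∑ k : Fin (n + 2), (-1 : ℤ) ^ (k : ℕ) •
        P.map (proj U a k).op (ev U P (fun l => a (k.succAbove l)) x) := by
  have hd : (cx U P).d n (n + 1) = AlgebraicTopology.AlternatingCofaceMapComplex.objD
      (((FormalCoproduct.cosimplicialObjectFunctor (FormalCoproduct.mk ι U).cech).obj P)) n := by
    exact dif_pos rfl |>.trans (Category.comp_id _)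
  have : (cx U P).d n (n + 1) ≫ ev U P a =
      ∑ k : Fin (n + 2), (-1 : ℤ) ^ (k : ℕ) •
        (ev U P (fun l => a (k.succAbove l)) ≫ P.map (proj U a k).op) := by
    rw [hd, AlgebraicTopology.AlternatingCofaceMapComplex.objD]
    refine (Preadditive.sum_comp _ _ _).trans (Finset.sum_congr rfl fun k _ => ?_)
    refine (Preadditive.zsmul_comp _ _ _).trans ?_
    congr 1
    exact Pi.lift_π _ _
  have h := ConcreteCategory.congr_hom this x
  rw [ConcreteCategory.comp_apply] at h
  rw [h]
  let e : (((cx U P).X n) ⟶ P.obj (op (obj U a))) →+ P.obj (op (obj U a)) :=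
    AddMonoidHom.mk' (fun φ => φ x) (fun _ _ => rfl)
  exact (map_sum e _ _).trans (Finset.sum_congr rfl fun k _ => map_zsmul e _ _)

section Godement

variable (A : D → AddCommGrpCat.{u})

/-- The presheaf `W ↦ ∏_{V → W} A V`. -/
noncomputable def godement : Dᵒᵖ ⥤ AddCommGrpCat.{u} where
  obj W := AddCommGrpCat.of (∀ V : D, (V ⟶ W.unop) → A V)
  map f := AddCommGrpCat.ofHom
    { toFun := fun s V g => s V (g ≫ f.unop)
      map_zero' := rfl
      map_add' := fun _ _ => rfl }
  map_id W := by
    ext s V g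
    simp
  map_comp f g := by
    ext s V h
    simp

/-- Evaluation of a section of `godement A`. -/
noncomputable def gEval (W : D) (V : D) (g : V ⟶ W) : (godement A).obj (op W) →+ A V :=
  AddMonoidHom.mk' (fun s => (s : ∀ V : D, (V ⟶ W) → A V) V g) (fun _ _ => rfl)

omit [HasFiniteProducts D] in
lemma gEval_map {W W' : D} (f : W' ⟶ W) (V : D) (g : V ⟶ W') (s : (godement A).obj (op W)) :
    gEval A W' V g ((godement A).map f.op s) = gEval A W V (g ≫ f) s := rfl

omit [HasFiniteProducts D] in
lemma gEval_ext {W : D} {s t : (godement A).obj (op W)}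
    (h : ∀ (V : D) (g : V ⟶ W), gEval A W V g s = gEval A W V g t) : s = t :=
  funext fun V => funext fun g => h V g

/-- The point of `obj U` defined by a tuple of maps. -/
noncomputable abbrev pt {n : ℕ} {V : D} (t : Fin (n + 1) → Σ i : ι, (V ⟶ U i)) :
    V ⟶ obj U (fun k => (t k).1) :=
  Pi.lift fun k => (t k).2

/-- A cochain as a function of tuples of maps. -/
noncomputable def hat {n : ℕ} (x : (cx U (godement A)).X n) {V : D}
    (t : Fin (n + 1) → Σ i : ι, (V ⟶ U i)) : A V :=
  gEval A (obj U fun k => (t k).1) V (pt U t) (ev U (godement A) (fun k => (t k).1) x)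

lemma hat_ext {n : ℕ} {x y : (cx U (godement A)).X n}
    (h : ∀ (V : D) (t : Fin (n + 1) → Σ i : ι, (V ⟶ U i)), hat U A x t = hat U A y t) : x = y := by
  refine ext U _ fun a => gEval_ext A fun V g => ?_
  have := h V fun k => ⟨a k, g ≫ Pi.π (fun k => U (a k)) k⟩
  have hg : g = pt U (fun k => (⟨a k, g ≫ Pi.π (fun k => U (a k)) k⟩ : Σ i : ι, (V ⟶ U i))) :=
    Pi.hom_ext _ _ fun k => by simp [pt]
  rw [hg]
  exact this

lemma hat_d {n : ℕ} (x : (cx U (godement A)).X n) {V : D}
    (t : Fin (n + 2) → Σ i : ι, (V ⟶ U i)) :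
    hat U A ((cx U (godement A)).d n (n + 1) x) t =
      ∑ k : Fin (n + 2), (-1 : ℤ) ^ (k : ℕ) • hat U A x (fun l => t (k.succAbove l)) := by
  rw [hat, ev_d, map_sum]
  refine Finset.sum_congr rfl fun k _ => ?_
  rw [map_zsmul, gEval_map, hat]
  have hpt : pt U t ≫ proj U (fun k => (t k).1) k = pt U (fun l => t (k.succAbove l)) :=
    Pi.hom_ext _ _ fun l => by simp [pt, proj]
  exact congrArg (fun g => (-1 : ℤ) ^ (k : ℕ) • gEval A _ V g _) hpt

/-- Cechs complexes of Godement presheaves are exact in positive degrees. -/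
theorem godement_exact (n : ℕ) (x : (cx U (godement A)).X (n + 1))
    (hx : (cx U (godement A)).d (n + 1) (n + 2) x = 0) :
    ∃ y : (cx U (godement A)).X n, (cx U (godement A)).d n (n + 1) y = x := by
  let sel (V : D) (h : Nonempty (Σ i : ι, (V ⟶ U i))) : Σ i : ι, (V ⟶ U i) := h.some
  let y : (cx U (godement A)).X n := mk U _ fun a => fun V g =>
    hat U A x (Fin.cons (sel V ⟨⟨a 0, g ≫ Pi.π (fun k => U (a k)) 0⟩⟩)
      (fun k => ⟨a k, g ≫ Pi.π (fun k => U (a k)) k⟩))
  have hy : ∀ (V : D) (t : Fin (n + 1) → Σ i : ι, (V ⟶ U i)),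
      hat U A y t = hat U A x (Fin.cons (sel V ⟨t 0⟩) t) := by
    intro V t
    have e : (fun k => (⟨(t k).1, pt U t ≫ Pi.π (fun k => U (t k).1) k⟩ : Σ i : ι, (V ⟶ U i))) = t :=
      funext fun k => by simp [pt]
    rw [hat]
    refine (congrArg (gEval A _ V (pt U t)) (ev_mk U _ _ _)).trans ?_
    change hat U A x (Fin.cons _ (fun k => (⟨(t k).1, pt U t ≫ Pi.π (fun k => U (t k).1) k⟩ :
      Σ i : ι, (V ⟶ U i)))) = _
    rw [e]
  refine ⟨y, hat_ext U A fun V t => ?_⟩
  have h := hat_d U A x (Fin.cons (sel V ⟨t 0⟩) t)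
  rw [hx] at h
  have h0 : hat U A (0 : (cx U (godement A)).X (n + 2)) (Fin.cons (sel V ⟨t 0⟩) t) = 0 := by
    rw [hat, map_zero]
    rfl
  rw [h0, Fin.sum_univ_succ] at h
  simp only [Fin.val_zero, pow_zero, one_smul, Fin.succAbove_zero, Fin.cons_succ, Fin.val_succ,
    pow_succ, mul_neg, mul_one, neg_smul, Finset.sum_neg_distrib] at h
  rw [hat_d, eq_comm]
  refine (eq_of_sub_eq_zero (a := hat U A x t) ?_)
  rw [sub_eq_add_neg]
  refine Eq.trans ?_ h.symm
  congr 2
  refine Finset.sum_congr rfl fun k _ => ?_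
  rw [hy]
  congr 2
  funext l
  cases l using Fin.cases with
  | zero => simp
  | succ m => simp [Fin.succ_succAbove_succ]

end Godement

/-- `P → ∏` of its own values. -/
noncomputable def toGodement : P ⟶ godement fun V => P.obj (op V) where
  app W := AddCommGrpCat.ofHom (AddMonoidHom.mk' (fun s V g => P.map g.op s)
    (fun a b => by funext V g; exact map_add _ _ _))
  naturality W W' f := by
    ext s
    funext V g
    change P.map g.op (P.map f s) = P.map (g ≫ f.unop).op s
    simp

instance : Mono (toGodement P) := by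
  have : ∀ W, Mono ((toGodement P).app W) := fun W => by
    rw [AddCommGrpCat.mono_iff_injective]
    intro a b h
    have := congrFun (congrFun h W.unop) (𝟙 W.unop)
    change P.map (𝟙 W.unop).op a = P.map (𝟙 W.unop).op b at this
    rw [show P.map (𝟙 W.unop).op = 𝟙 _ from P.map_id W] at this
    exact this
  exact NatTrans.mono_of_mono_app _

/-- Injective presheaves have no Cech cohomology in positive degrees. -/
theorem isZero_homology_of_injective [Injective P] (n : ℕ) :
    IsZero ((cx U P).homology (n + 1)) := by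
  let G := godement fun V => P.obj (op V)
  have hG : IsZero ((cx U G).homology (n + 1)) := by
    rw [← HomologicalComplex.exactAt_iff_isZero_homology,
      HomologicalComplex.exactAt_iff' _ n (n + 1) (n + 2) (by simp) (by simp),
      ShortComplex.ab_exact_iff]
    exact godement_exact U _ n
  let r : G ⟶ P := Injective.factorThru (𝟙 P) (toGodement P)
  have hr : toGodement P ≫ r = 𝟙 P := Injective.comp_factorThru _ _
  rw [IsZero.iff_id_eq_zero, ← HomologicalComplex.homologyMap_id,
    ← (cechComplexFunctor (A := AddCommGrpCat.{u}) U).map_id, ← hr, Functor.map_comp,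
    HomologicalComplex.homologyMap_comp, hG.eq_of_tgt (HomologicalComplex.homologyMap _ _) 0,
    zero_comp]

end GrothLib.Cech
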