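import Groth.Agent.Lib.Cech.Site
import Groth.Agent.Lib.SheafCoh.Acyclic

/-!
# Surjectivity from vanishing first Cech cohomology; Cartan's criterion
-/

universe u

open CategoryTheory Limits Opposite GrothLib.SheafCoh

namespace GrothLib.Cech

variable {C : Type u} [SmallCategory C] {J : GrothendieckTopology C}
  {D : Type u} [SmallCategory D] [HasFiniteProducts D] (j : D ⥤ C) {ι : Type u} (U : ι → D)

section

variable {T : C} (π : ∀ i, j.obj (U i) ⟶ T)
  (hπ : ∀ (W : D) (i k : ι) (f : W ⟶ U i) (g : W ⟶ U k), j.map f ≫ π i = j.map g ≫ π k)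
  (hcov : Sieve.ofArrows (fun i => j.obj (U i)) π ∈ J T)
  (hlift : ∀ (Z : C) (i k : ι) (g₁ : Z ⟶ j.obj (U i)) (g₂ : Z ⟶ j.obj (U k)), g₁ ≫ π i = g₂ ≫ π k →
    ∃ (W : D) (f : W ⟶ U i) (g : W ⟶ U k) (l : Z ⟶ j.obj W), l ≫ j.map f = g₁ ∧ l ≫ j.map g = g₂)

include hπ hcov hlift in
/-- Local lifts glue when `Ȟ¹` of the kernel vanishes. -/
theorem exists_lift_of_isZero_H1 {S : ShortComplex (Sheaf J AddCommGrpCat.{u})} (hS : S.ShortExact)
    (h1 : IsZero (((cxFun j U J).obj S.X₁).homology 1)) (s : S.X₃.obj.obj (op T))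
    (hs : ∀ i, ∃ r, S.g.hom.app (op (j.obj (U i))) r = S.X₃.obj.map (π i).op s) :
    ∃ t, S.g.hom.app (op T) t = s := by
  choose r hr using hs
  let x : ((cxFun j U J).obj S.X₂).X 0 := mkS j U S.X₂ fun a =>
    S.X₂.obj.map (j.map (Pi.π (fun k => U (a k)) 0)).op (r (a 0))
  have hgx : ((cxFun j U J).map S.g).f 0 x = aug j U π S.X₃ s := by
    refine extS j U fun a => ?_
    rw [ev_map, evS_mkS, ev_aug, op_comp, S.X₃.obj.map_comp, ConcreteCategory.comp_apply]
    exact (ConcreteCategory.congr_hom (S.g.hom.naturality _) _).trans (congrArg _ (hr _))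
  have hdaug : ∀ (F : Sheaf J AddCommGrpCat.{u}) (u : F.obj.obj (op T)),
      ((cxFun j U J).obj F).d 0 1 (aug j U π F u) = 0 := fun F u =>
    ConcreteCategory.congr_hom (aug_d j U π hπ F) u
  let y := ((cxFun j U J).obj S.X₂).d 0 1 x
  have hgy : ((cxFun j U J).map S.g).f 1 y = 0 := by
    refine (ConcreteCategory.congr_hom (((cxFun j U J).map S.g).comm 0 1) x).symm.trans ?_
    change ((cxFun j U J).obj S.X₃).d 0 1 (((cxFun j U J).map S.g).f 0 x) = 0
    rw [hgx, hdaug]
  have : ∀ a : Fin 2 → ι, ∃ c, S.f.hom.app (op (j.obj (obj U a))) c = evS j U S.X₂ a y := fun a => by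
    refine sections_exact hS _ _ ?_
    rw [← ev_map, hgy, map_zero]
  choose c hc using this
  let z : ((cxFun j U J).obj S.X₁).X 1 := mkS j U S.X₁ c
  have hfz : ((cxFun j U J).map S.f).f 1 z = y := extS j U fun a => by rw [ev_map, evS_mkS, hc]
  have hdz : ((cxFun j U J).obj S.X₁).d 1 2 z = 0 := by
    refine extS j U fun a => sections_injective hS _ ?_
    rw [map_zero, map_zero, ← ev_map]
    have h2 : ((cxFun j U J).map S.f).f 2 (((cxFun j U J).obj S.X₁).d 1 2 z) =
        ((cxFun j U J).obj S.X₂).d 1 2 y := by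
      rw [← hfz]
      exact (ConcreteCategory.congr_hom (((cxFun j U J).map S.f).comm 1 2) z).symm
    rw [h2]
    have h3 : ((cxFun j U J).obj S.X₂).d 1 2 y = 0 :=
      ConcreteCategory.congr_hom (((cxFun j U J).obj S.X₂).d_comp_d 0 1 2) x
    rw [h3, map_zero]
  rw [← HomologicalComplex.exactAt_iff_isZero_homology,
    HomologicalComplex.exactAt_iff' _ 0 1 2 (by simp) (by simp), ShortComplex.ab_exact_iff] at h1
  obtain ⟨e, he⟩ := h1 z hdz
  let x' : ((cxFun j U J).obj S.X₂).X 0 := x - ((cxFun j U J).map S.f).f 0 e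
  have hdx' : ((cxFun j U J).obj S.X₂).d 0 1 x' = 0 := by
    rw [map_sub, sub_eq_zero]
    refine Eq.symm ((ConcreteCategory.congr_hom (((cxFun j U J).map S.f).comm 0 1) e).trans ?_)
    exact (congrArg _ he).trans hfz
  have hiso : ∀ F : Sheaf J AddCommGrpCat.{u},
      IsIso (((cxFun j U J).obj F).liftCycles (aug j U π F) 1 (by simp) (aug_d j U π hπ F)) := fun F =>
    have : IsIso (((cxFun j U J).obj F).liftCycles (aug j U π F) 1 (by simp) (aug_d j U π hπ F) ≫
        ((cxFun j U J).obj F).homologyπ 0) := isIso_augH j U π hπ hcov hlift F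
    IsIso.of_isIso_comp_right _ (((cxFun j U J).obj F).homologyπ 0)
  have hG := hiso S.X₂
  rw [CochainComplex.isIso_liftCycles_iff, ShortComplex.ab_exact_iff] at hG
  obtain ⟨t, ht⟩ := hG.1 x' hdx'
  have hH := hiso S.X₃
  rw [CochainComplex.isIso_liftCycles_iff, AddCommGrpCat.mono_iff_injective] at hH
  refine ⟨t, hH.2 ?_⟩
  have h4 : aug j U π S.X₃ (S.g.hom.app (op T) t) =
      ((cxFun j U J).map S.g).f 0 (aug j U π S.X₂ t) := by
    refine extS j U fun a => ?_
    rw [ev_map, ev_aug, ev_aug]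
    exact (ConcreteCategory.congr_hom (S.g.hom.naturality _) t).symm
  refine h4.trans ?_
  change ((cxFun j U J).map S.g).f 0 (aug j U π S.X₂ t) = _
  rw [show aug j U π S.X₂ t = x' from ht, map_sub, hgx, sub_eq_self]
  refine extS j U fun a => ?_
  rw [ev_map, ev_map, map_zero]
  exact ConcreteCategory.congr_hom (congrArg (fun k => k.hom.app (op (j.obj (obj U a)))) S.zero) _

end

/-- Vanishing of positive Cech cohomology passes to the cokernel in an injective. -/
theorem isZero_homology_quotient (F : Sheaf J AddCommGrpCat.{u})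
    (hinj : ∀ n : ℕ, IsZero (((cxFun j U J).obj (Injective.under F)).homology (n + 1)))
    (hsurj : ∀ (n : ℕ) (a : Fin (n + 1) → ι),
      Function.Surjective ((cokernel.π (Injective.ι F)).hom.app (op (j.obj (obj U a)))))
    (h : ∀ n : ℕ, IsZero (((cxFun j U J).obj F).homology (n + 1))) (n : ℕ) :
    IsZero (((cxFun j U J).obj (cokernel (Injective.ι F))).homology (n + 1)) :=
  (cxShort_shortExact' j U (injSES_shortExact F) hsurj).homology_exact₃ (n + 1) (n + 2) rfl
    |>.isZero_of_both_zeros ((hinj n).eq_of_src _ _) ((h (n + 1)).eq_of_tgt _ _)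

variable {X : TopCat.{u}}

open TopologicalSpace in
/-- Sections surject when `Ȟ¹` of the kernel vanishes on refinements of every covering. -/
theorem sections_surjective_top {S : ShortComplex (CohTop.Ab X)} (hS : S.ShortExact) (U : Opens X)
    (h : ∀ (ι : Type u) (V : ι → Opens X), iSup V = U →
      ∃ (κ : Type u) (W : κ → Opens X) (r : κ → ι), iSup W = U ∧ (∀ k, W k ≤ V (r k)) ∧
        IsZero (CohTop.cechH S.X₁.obj W 1)) :
    Function.Surjective (S.g.hom.app (op U)) := by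
  intro s
  have := hS.epi_g
  have hmem := imageSieve_mem_of_epi (J := Opens.grothendieckTopology X) S.g s
  choose V i hi hx using fun x : U => hmem x.1 x.2
  have hV : iSup V = U := le_antisymm (iSup_le fun x => (i x).le)
    (fun x hxU => Opens.mem_iSup.2 ⟨⟨x, hxU⟩, hx ⟨x, hxU⟩⟩)
  obtain ⟨κ, W, r, hW, hWV, hz⟩ := h U V hV
  subst hW
  refine exists_lift_of_isZero_H1 (J := Opens.grothendieckTopology X) (𝟭 (Opens X)) W
    (fun k => homOfLE (le_iSup W k)) (fun _ _ _ _ _ => Subsingleton.elim _ _)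
    (fun x hxU => by
      obtain ⟨k, hk⟩ := Opens.mem_iSup.1 hxU
      exact ⟨W k, homOfLE (le_iSup W k),
        ⟨W k, 𝟙 _, homOfLE (le_iSup W k), ⟨k⟩, Category.id_comp _⟩, hk⟩)
    (fun Z i k g₁ g₂ _ => ⟨Z, g₁, g₂, 𝟙 Z, Subsingleton.elim _ _, Subsingleton.elim _ _⟩) hS hz s
    fun k => ?_
  have hk := (Presheaf.imageSieve S.g.hom s).downward_closed (hi (r k)) (homOfLE (hWV k))
  exact hk

/-- Sections surject when `Ȟ¹` of the kernel vanishes on refinements of every covering sieve. -/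
theorem sections_surjective_site [HasPullbacks C] {S : ShortComplex (Sheaf J AddCommGrpCat.{u})}
    (hS : S.ShortExact) (U : C)
    (h : ∀ T ∈ J U, ∃ (ι : Type u) (Y : ι → Over U), (∀ i, T.arrows (Y i).hom) ∧
      Sieve.ofArrows (fun i => (Y i).left) (fun i => (Y i).hom) ∈ J U ∧
      IsZero (CohCx.cechH S.X₁.obj Y 1)) :
    Function.Surjective (S.g.hom.app (op U)) := by
  intro s
  have := hS.epi_g
  obtain ⟨ι, Y, hT, hY, hz⟩ := h _ (imageSieve_mem_of_epi S.g s)
  exact exists_lift_of_isZero_H1 (Over.forget U) Y (fun i => (Y i).hom)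
    (fun W i k f g => (Over.w f).trans (Over.w g).symm) hY
    (fun Z i k g₁ g₂ hg => ⟨Over.mk (g₁ ≫ (Y i).hom), Over.homMk g₁, Over.homMk g₂ hg.symm, 𝟙 Z,
      Category.id_comp _, Category.id_comp _⟩) hS hz s hT

open TopologicalSpace in
/-- Cartan's criterion on a space, for a basis and a class of families. -/
theorem cartan_top (F : CohTop.Ab X) (B : Set (Opens X))
    (Cov : ∀ (ι : Type u), (ι → Opens X) → Prop)
    (h1 : ∀ (ι : Type u) (V : ι → Opens X), Cov ι V →
      iSup V ∈ B ∧ ∀ (p : ℕ) (a : Fin (p + 1) → ι), (iInf fun k => V (a k)) ∈ B)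
    (h2 : ∀ U ∈ B, ∀ (κ : Type u) (W : κ → Opens X), iSup W = U →
      ∃ (ι : Type u) (V : ι → Opens X), Cov ι V ∧ iSup V = U ∧ ∀ i, ∃ k, V i ≤ W k)
    (h3 : ∀ (ι : Type u) (V : ι → Opens X), Cov ι V → ∀ p : ℕ, IsZero (CohTop.cechH F.obj V (p + 1)))
    (U : Opens X) (hU : U ∈ B) (p : ℕ) : Subsingleton (CohTop.HU F (p + 1) U) := by
  let P : CohTop.Ab X → Prop := fun G =>
    ∀ (ι : Type u) (V : ι → Opens X), Cov ι V → ∀ p : ℕ, IsZero (CohTop.cechH G.obj V (p + 1))
  have hsurj : ∀ G, P G → ∀ W ∈ B,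
      Function.Surjective ((cokernel.π (Injective.ι G)).hom.app (op W)) := fun G hG W hW =>
    sections_surjective_top (injSES_shortExact G) W fun κ T hT => by
      obtain ⟨ι, V, hV, hVW, hr⟩ := h2 W hW κ T hT
      choose r hr using hr
      exact ⟨ι, V, r, hVW, hr, hG ι V hV 0⟩
  refine subsingleton_HU_of_class (J := Opens.grothendieckTopology X) U P
    (fun G hG => ⟨fun ι V hV n => ?_, hsurj G hG U hU⟩) F h3 p
  exact isZero_homology_quotient (J := Opens.grothendieckTopology X) (𝟭 (Opens X)) V G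
    (fun m => isZero_cechH_injective V (Injective.under G) m)
    (fun m a => hsurj G hG _ (by
      change obj V a ∈ B
      rw [obj_eq_iInf]
      exact (h1 ι V hV).2 m a)) (hG ι V hV) n

/-- Cartan's criterion on a site with fibre products. -/
theorem cartan_site [HasPullbacks C] (B : Set C) (Cov : ∀ (U : C) (ι : Type u), (ι → Over U) → Prop)
    (h1 : ∀ (U : C) (ι : Type u) (Y : ι → Over U), Cov U ι Y → U ∈ B ∧
      Sieve.ofArrows (fun i => (Y i).left) (fun i => (Y i).hom) ∈ J U ∧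
      ∀ (p : ℕ) (a : Fin (p + 1) → ι), (∏ᶜ fun k => Y (a k)).left ∈ B)
    (h2 : ∀ U ∈ B, ∀ T ∈ J U, ∃ (ι : Type u) (Y : ι → Over U), Cov U ι Y ∧ ∀ i, T.arrows (Y i).hom)
    (F : Sheaf J AddCommGrpCat.{u})
    (h3 : ∀ (U : C) (ι : Type u) (Y : ι → Over U), Cov U ι Y → ∀ p : ℕ,
      IsZero (CohCx.cechH F.obj Y (p + 1)))
    (U : C) (hU : U ∈ B) (p : ℕ) : Subsingleton (CohSite.HU F (p + 1) U) := by
  let P : Sheaf J AddCommGrpCat.{u} → Prop := fun G =>
    ∀ (U : C) (ι : Type u) (Y : ι → Over U), Cov U ι Y → ∀ p : ℕ,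
      IsZero (CohCx.cechH G.obj Y (p + 1))
  have hsurj : ∀ G, P G → ∀ W ∈ B,
      Function.Surjective ((cokernel.π (Injective.ι G)).hom.app (op W)) := fun G hG W hW =>
    sections_surjective_site (injSES_shortExact G) W fun T hT => by
      obtain ⟨ι, Y, hY, hYT⟩ := h2 W hW T hT
      exact ⟨ι, Y, hYT, (h1 W ι Y hY).2.1, hG W ι Y hY 0⟩
  refine subsingleton_HU_of_class U P (fun G hG => ⟨fun W ι Y hY n => ?_, hsurj G hG U hU⟩) F h3 p
  exact isZero_homology_quotient (Over.forget W) Y G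
    (fun m => @isZero_cechH_of_injective_presheaf _ _ _ _ _ (injective_presheaf _) _ Y m)
    (fun m a => hsurj G hG _ ((h1 W ι Y hY).2.2 m a)) (hG W ι Y hY) n

end GrothLib.Cech
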