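import Groth.Agent.Lib.Cech.Basic
import Groth.Agent.Lib.Cohom.DimShift
import Groth.Agent.Lib.SheafCoh.Compare
import Groth.Agent.Lib.SheafCoh.Sections
import Groth.Agent.Lib.SheafCoh.Acyclic
import Mathlib.Algebra.Homology.HomologySequence
import Mathlib.Algebra.Homology.HomologicalComplexAbelian

/-!
# Cech cohomology of an acyclic cover computes cohomology
-/

universe u

open CategoryTheory Limits Opposite Abelian GrothLib.SheafCoh

namespace GrothLib.Cech

variable {C : Type u} [SmallCategory C] {J : GrothendieckTopology C}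
  {D : Type u} [SmallCategory D] [HasFiniteProducts D] (j : D ⥤ C) {ι : Type u} (U : ι → D)

/-- The Cech complex of a sheaf. -/
noncomputable abbrev cxFun (J : GrothendieckTopology C) :
    Sheaf J AddCommGrpCat.{u} ⥤ CochainComplex AddCommGrpCat.{u} ℕ :=
  sheafToPresheaf J AddCommGrpCat.{u} ⋙ (Functor.whiskeringLeft _ _ _).obj j.op ⋙
    cechComplexFunctor U

/-- Coordinates. -/
noncomputable def evS (F : Sheaf J AddCommGrpCat.{u}) {n : ℕ} (a : Fin (n + 1) → ι) :
    ((cxFun j U J).obj F).X n ⟶ F.obj.obj (op (j.obj (obj U a))) :=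
  ev U (j.op ⋙ F.obj) a

/-- A cochain from its coordinates. -/
noncomputable def mkS (F : Sheaf J AddCommGrpCat.{u}) {n : ℕ}
    (x : ∀ a : Fin (n + 1) → ι, F.obj.obj (op (j.obj (obj U a)))) : ((cxFun j U J).obj F).X n :=
  mk U (j.op ⋙ F.obj) x

lemma extS {F : Sheaf J AddCommGrpCat.{u}} {n : ℕ} {x y : ((cxFun j U J).obj F).X n}
    (h : ∀ a : Fin (n + 1) → ι, evS j U F a x = evS j U F a y) : x = y :=
  ext U (j.op ⋙ F.obj) h

lemma evS_mkS (F : Sheaf J AddCommGrpCat.{u}) {n : ℕ}
    (x : ∀ a : Fin (n + 1) → ι, F.obj.obj (op (j.obj (obj U a)))) (a : Fin (n + 1) → ι) :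
    evS j U F a (mkS j U F x) = x a :=
  ev_mk U (j.op ⋙ F.obj) x a

lemma evS_d (F : Sheaf J AddCommGrpCat.{u}) {n : ℕ} (a : Fin (n + 2) → ι)
    (x : ((cxFun j U J).obj F).X n) :
    evS j U F a (((cxFun j U J).obj F).d n (n + 1) x) =
      ∑ k : Fin (n + 2), (-1 : ℤ) ^ (k : ℕ) •
        F.obj.map (j.map (proj U a k)).op (evS j U F (fun l => a (k.succAbove l)) x) :=
  ev_d U (j.op ⋙ F.obj) a x

lemma ev_map {F G : Sheaf J AddCommGrpCat.{u}} (g : F ⟶ G) {n : ℕ} (a : Fin (n + 1) → ι)
    (x : ((cxFun j U J).obj F).X n) :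
    evS j U G a (((cxFun j U J).map g).f n x) =
      g.hom.app (op (j.obj (obj U a))) (evS j U F a x) :=
  ConcreteCategory.congr_hom (Pi.map_π
    (fun a : Fin (n + 1) → ι => g.hom.app (op (j.obj (obj U a)))) a) x

/-- All finite products of the family are acyclic for `F`. -/
def Acyc (F : Sheaf J AddCommGrpCat.{u}) : Prop :=
  ∀ (n : ℕ) (a : Fin (n + 1) → ι) (q : ℕ),
    Subsingleton (Ext.{u} (freeY J (j.obj (obj U a))) F (q + 1))

lemma acyc_of_HU (F : Sheaf J AddCommGrpCat.{u})
    (h : ∀ (n : ℕ) (a : Fin (n + 1) → ι) (q : ℕ),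
      Subsingleton (CohSite.HU F (q + 1) (j.obj (obj U a)))) : Acyc j U F :=
  fun n a q => @Equiv.subsingleton _ _ (HUext F (q + 1) _).symm.toEquiv (h n a q)

/-- The short complex of Cech complexes of a short complex of sheaves. -/
noncomputable abbrev cxShort (S : ShortComplex (Sheaf J AddCommGrpCat.{u})) :
    ShortComplex (CochainComplex AddCommGrpCat.{u} ℕ) :=
  ShortComplex.mk ((cxFun j U J).map S.f) ((cxFun j U J).map S.g) (by
    apply HomologicalComplex.hom_ext
    intro n
    ext x
    refine extS j U fun a => ?_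
    change evS j U _ a (((cxFun j U J).map S.g).f n (((cxFun j U J).map S.f).f n x)) = evS j U _ a 0
    rw [ev_map, ev_map, map_zero]
    exact ConcreteCategory.congr_hom
      (congrArg (fun k => k.hom.app (op (j.obj (obj U a)))) S.zero) _)

theorem sections_exact {S : ShortComplex (Sheaf J AddCommGrpCat.{u})} (hS : S.ShortExact) (W : C)
    (s : S.X₂.obj.obj (op W)) (hs : S.g.hom.app (op W) s = 0) :
    ∃ r, S.f.hom.app (op W) r = s := by
  have := hS.mono_f
  exact (ShortComplex.ab_exact_iff _).1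
    ((hS.exact.map_of_mono_of_preservesKernel (sheafToPresheaf J AddCommGrpCat.{u})
      inferInstance inferInstance).map ((evaluation _ _).obj (op W))) s hs

theorem sections_injective {S : ShortComplex (Sheaf J AddCommGrpCat.{u})} (hS : S.ShortExact) (W : C) :
    Function.Injective (S.f.hom.app (op W)) := by
  have := hS.mono_f
  have : Mono ((sheafToPresheaf J AddCommGrpCat.{u}).map S.f) := inferInstance
  exact (AddCommGrpCat.mono_iff_injective _).1
    (inferInstanceAs (Mono (((sheafToPresheaf J AddCommGrpCat.{u}).map S.f).app (op W))))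

theorem sections_surjective_of_acyc {S : ShortComplex (Sheaf J AddCommGrpCat.{u})} (hS : S.ShortExact)
    (h : Acyc j U S.X₁) (n : ℕ) (a : Fin (n + 1) → ι) :
    Function.Surjective (S.g.hom.app (op (j.obj (obj U a)))) := by
  intro s
  obtain ⟨g', hg'⟩ := surjective_of_subsingleton hS (h n a 0) ((homFreeY _ _).symm s)
  refine ⟨homFreeY _ _ g', ?_⟩
  rw [← homFreeY_comp, hg', AddEquiv.apply_symm_apply]

theorem cxShort_shortExact' {S : ShortComplex (Sheaf J AddCommGrpCat.{u})} (hS : S.ShortExact)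
    (hsurj : ∀ (n : ℕ) (a : Fin (n + 1) → ι),
      Function.Surjective (S.g.hom.app (op (j.obj (obj U a))))) : (cxShort j U S).ShortExact := by
  have hW := sections_exact hS
  have hinj := sections_injective hS
  apply HomologicalComplex.shortExact_of_degreewise_shortExact
  intro n
  refine { exact := ?_, mono_f := ?_, epi_g := ?_ }
  · rw [ShortComplex.ab_exact_iff]
    intro (x : ((cxFun j U J).obj S.X₂).X n) hx
    have : ∀ a, ∃ r, S.f.hom.app (op (j.obj (obj U a))) r = evS j U S.X₂ a x := by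
      intro a
      apply hW
      rw [← ev_map]
      exact (congrArg (evS j U _ a) hx).trans (map_zero _)
    choose r hr using this
    refine ⟨mkS j U S.X₁ r, extS j U fun a => ?_⟩
    change evS j U _ a (((cxFun j U J).map S.f).f n _) = _
    rw [ev_map, evS_mkS]
    exact hr a
  · rw [AddCommGrpCat.mono_iff_injective]
    intro (x : ((cxFun j U J).obj S.X₁).X n) (y : ((cxFun j U J).obj S.X₁).X n) hxy
    refine extS j U fun a => hinj _ ?_
    rw [← ev_map, ← ev_map]
    exact congrArg (evS j U _ a) hxy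
  · rw [AddCommGrpCat.epi_iff_surjective]
    intro x
    have : ∀ a, ∃ r, S.g.hom.app (op (j.obj (obj U a))) r = evS j U S.X₃ a x :=
      fun a => hsurj n a _
    choose r hr using this
    refine ⟨mkS j U S.X₂ r, extS j U fun a => ?_⟩
    change evS j U _ a (((cxFun j U J).map S.g).f n _) = _
    rw [ev_map, evS_mkS]
    exact hr a

theorem cxShort_shortExact {S : ShortComplex (Sheaf J AddCommGrpCat.{u})} (hS : S.ShortExact)
    (h : Acyc j U S.X₁) : (cxShort j U S).ShortExact :=
  cxShort_shortExact' j U hS (sections_surjective_of_acyc j U hS h)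

section Zero

variable {T : C} (π : ∀ i, j.obj (U i) ⟶ T)
  (hπ : ∀ (W : D) (i k : ι) (f : W ⟶ U i) (g : W ⟶ U k), j.map f ≫ π i = j.map g ≫ π k)

/-- The augmentation `F T → C⁰`. -/
noncomputable def aug (F : Sheaf J AddCommGrpCat.{u}) : F.obj.obj (op T) ⟶ ((cxFun j U J).obj F).X 0 :=
  Pi.lift (f := fun a : Fin (0 + 1) → ι => (j.op ⋙ F.obj).obj (op (obj U a))) fun a =>
    F.obj.map (j.map (Pi.π (fun k => U (a k)) 0) ≫ π (a 0)).op

lemma ev_aug (F : Sheaf J AddCommGrpCat.{u}) (a : Fin (0 + 1) → ι) (t : F.obj.obj (op T)) :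
    evS j U F a (aug j U π F t) =
      F.obj.map (j.map (Pi.π (fun k => U (a k)) 0) ≫ π (a 0)).op t :=
  ConcreteCategory.congr_hom (Pi.lift_π
    (fun a : Fin (0 + 1) → ι => F.obj.map (j.map (Pi.π (fun k => U (a k)) 0) ≫ π (a 0)).op) a) t

include hπ in
lemma aug_d (F : Sheaf J AddCommGrpCat.{u}) : aug j U π F ≫ ((cxFun j U J).obj F).d 0 1 = 0 := by
  ext t
  refine extS j U fun a => ?_
  change evS j U _ a (((cxFun j U J).obj F).d 0 1 (aug j U π F t)) = evS j U _ a 0
  rw [evS_d, Fin.sum_univ_two, ev_aug, ev_aug, map_zero]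
  simp only [Fin.val_zero, pow_zero, one_smul, Fin.val_one, pow_one, neg_smul]
  rw [add_neg_eq_zero]
  change (F.obj.map _ ≫ F.obj.map _) t = (F.obj.map _ ≫ F.obj.map _) t
  erw [← F.obj.map_comp, ← F.obj.map_comp, ← op_comp, ← op_comp, ← Category.assoc, ← j.map_comp,
    ← Category.assoc, ← j.map_comp, hπ]

variable (hcov : Sieve.ofArrows (fun i => j.obj (U i)) π ∈ J T)
  (hlift : ∀ (Z : C) (i k : ι) (g₁ : Z ⟶ j.obj (U i)) (g₂ : Z ⟶ j.obj (U k)), g₁ ≫ π i = g₂ ≫ π k →
    ∃ (W : D) (f : W ⟶ U i) (g : W ⟶ U k) (l : Z ⟶ j.obj W), l ≫ j.map f = g₁ ∧ l ≫ j.map g = g₂)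

/-- The degree zero comparison. -/
noncomputable def augH (F : Sheaf J AddCommGrpCat.{u}) :
    F.obj.obj (op T) ⟶ ((cxFun j U J).obj F).homology 0 :=
  ((cxFun j U J).obj F).liftCycles (aug j U π F) 1 (by simp) (aug_d j U π hπ F) ≫ ((cxFun j U J).obj F).homologyπ 0

lemma augH_naturality {F G : Sheaf J AddCommGrpCat.{u}} (g : F ⟶ G) :
    g.hom.app (op T) ≫ augH j U π hπ G =
      augH j U π hπ F ≫ HomologicalComplex.homologyMap ((cxFun j U J).map g) 0 := by
  rw [augH, augH, Category.assoc, HomologicalComplex.homologyπ_naturality, ← Category.assoc,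
    ← Category.assoc]
  congr 1
  rw [← cancel_mono (HomologicalComplex.iCycles _ _), Category.assoc, Category.assoc,
    HomologicalComplex.cyclesMap_i, HomologicalComplex.liftCycles_i,
    HomologicalComplex.liftCycles_i_assoc]
  ext t
  refine extS j U fun a => ?_
  change evS j U _ a (aug j U π G (g.hom.app (op T) t)) =
    evS j U _ a (((cxFun j U J).map g).f 0 (aug j U π F t))
  rw [ev_map, ev_aug, ev_aug]
  exact (ConcreteCategory.congr_hom (g.hom.naturality _) t).symm

include hcov hlift in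
theorem isIso_augH (F : Sheaf J AddCommGrpCat.{u}) : IsIso (augH j U π hπ F) := by
  have hsh : Presieve.IsSheafFor (F.obj ⋙ forget AddCommGrpCat.{u})
      (Presieve.ofArrows (fun i => j.obj (U i)) π) :=
    (Presieve.isSheafFor_iff_generate _).2 (((isSheaf_iff_isSheaf_of_type J _).1
      ((Presheaf.isSheaf_iff_isSheaf_forget J _ (forget AddCommGrpCat.{u})).1 F.property)) _ hcov)
  rw [Presieve.isSheafFor_arrows_iff] at hsh
  have hrest : ∀ (t : F.obj.obj (op T)) (a : Fin (0 + 1) → ι) (i : ι) (h : U i ⟶ obj U a),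
      F.obj.map (j.map h).op (evS j U F a (aug j U π F t)) = F.obj.map (π i).op t := by
    intro t a i h
    rw [ev_aug]
    change (F.obj.map _ ≫ F.obj.map _) t = _
    rw [← F.obj.map_comp, ← op_comp, ← Category.assoc, ← j.map_comp, hπ _ (a 0) i _ (𝟙 (U i)),
      j.map_id, Category.id_comp]
  let diag : ∀ i : ι, U i ⟶ obj U (fun _ : Fin (0 + 1) => i) := fun i => Pi.lift fun _ => 𝟙 (U i)
  have : IsIso (((cxFun j U J).obj F).liftCycles (aug j U π F) 1 (by simp) (aug_d j U π hπ F)) := by
    rw [CochainComplex.isIso_liftCycles_iff, AddCommGrpCat.mono_iff_injective,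
      ShortComplex.ab_exact_iff]
    constructor
    · intro x hx
      let s : ∀ i, F.obj.obj (op (j.obj (U i))) := fun i =>
        F.obj.map (j.map (diag i)).op (evS j U F (fun _ => i) x)
      have key : ∀ (W : D) (a : Fin (0 + 1) → ι) (h : W ⟶ obj U a),
          F.obj.map (j.map h).op (evS j U F a x) =
            F.obj.map (j.map (h ≫ Pi.π (fun k => U (a k)) 0)).op (s (a 0)) := by
        intro W a h
        obtain ⟨i, rfl⟩ : ∃ i, a = fun _ => i :=
          ⟨a 0, funext fun l => by rw [Subsingleton.elim (α := Fin 1) l 0]⟩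
        change _ = (F.obj.map _ ≫ F.obj.map _) _
        rw [← F.obj.map_comp, ← op_comp, ← j.map_comp]
        congr 5
        exact Pi.hom_ext _ _ fun l => by
          obtain rfl : l = 0 := Subsingleton.elim (α := Fin 1) l 0
          simp [diag]
      have hcompat : Presieve.Arrows.Compatible (F.obj ⋙ forget AddCommGrpCat.{u}) π s := by
        intro i k Z g₁ g₂ hg
        obtain ⟨W, f, g, l, hl₁, hl₂⟩ := hlift Z i k g₁ g₂ hg
        subst hl₁ hl₂
        have h0 : evS j U F ![i, k] (((cxFun j U J).obj F).d 0 1 x) = 0 :=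
          (congrArg (evS j U F ![i, k]) hx).trans (map_zero _)
        rw [evS_d, Fin.sum_univ_two] at h0
        simp only [Fin.val_zero, pow_zero, one_smul, Fin.val_one, pow_one, neg_smul] at h0
        rw [add_neg_eq_zero] at h0
        let m : W ⟶ obj U ![i, k] := Pi.lift (f := fun l : Fin 2 => U (![i, k] l))
          (Fin.cases f (Fin.cases g finZeroElim))
        have h1 := congrArg (F.obj.map (j.map m).op) h0
        change (F.obj.map _ ≫ F.obj.map _) _ = (F.obj.map _ ≫ F.obj.map _) _ at h1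
        erw [← F.obj.map_comp, ← F.obj.map_comp, ← op_comp, ← op_comp, ← j.map_comp, ← j.map_comp] at h1
        rw [key, key] at h1
        have hg₁ : (m ≫ proj U ![i, k] 0) ≫ Pi.π (fun l => U (![i, k] ((0 : Fin 2).succAbove l))) 0 = g :=
          (Category.assoc _ _ _).trans ((congrArg (m ≫ ·) (Pi.lift_π _ _)).trans (Pi.lift_π _ _))
        have hf₁ : (m ≫ proj U ![i, k] 1) ≫ Pi.π (fun l => U (![i, k] ((1 : Fin 2).succAbove l))) 0 = f :=
          (Category.assoc _ _ _).trans ((congrArg (m ≫ ·) (Pi.lift_π _ _)).trans (Pi.lift_π _ _))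
        replace h1 : F.obj.map (j.map g).op (s k) = F.obj.map (j.map f).op (s i) := by
          refine Eq.trans ?_ (h1.trans ?_)
          · exact congrArg (fun g => F.obj.map (j.map g).op (s k)) hg₁.symm
          · exact congrArg (fun f => F.obj.map (j.map f).op (s i)) hf₁
        change F.obj.map (l ≫ j.map f).op (s i) = F.obj.map (l ≫ j.map g).op (s k)
        rw [op_comp, op_comp, F.obj.map_comp, F.obj.map_comp, ConcreteCategory.comp_apply,
          ConcreteCategory.comp_apply]
        exact (congrArg _ h1).symm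
      obtain ⟨t, ht, -⟩ := hsh s hcompat
      refine ⟨t, extS j U fun a => ?_⟩
      change evS j U _ a (aug j U π F t) = _
      rw [ev_aug, op_comp, F.obj.map_comp, ConcreteCategory.comp_apply]
      have ht0 : F.obj.map (π (a 0)).op t = s (a 0) := ht (a 0)
      rw [ht0]
      have h2 := key (obj U a) a (𝟙 _)
      rw [Category.id_comp, j.map_id, op_id, F.obj.map_id] at h2
      exact h2.symm
    · intro t t' htt
      have : ∀ i, F.obj.map (π i).op t = F.obj.map (π i).op t' := fun i => by
        rw [← hrest t (fun _ => i) i (diag i), ← hrest t' (fun _ => i) i (diag i), htt]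
      obtain ⟨_, -, huniq⟩ := hsh (fun i => F.obj.map (π i).op t) (fun i k Z g₁ g₂ hg => by
        change (F.obj.map _ ≫ F.obj.map _) t = (F.obj.map _ ≫ F.obj.map _) t
        rw [← F.obj.map_comp, ← F.obj.map_comp, ← op_comp, ← op_comp, hg])
      exact (huniq t fun i => rfl).trans (huniq t' fun i => (this i).symm).symm
  rw [augH]
  infer_instance

end Zero

section Main

variable {T : C} (π : ∀ i, j.obj (U i) ⟶ T)
  (hπ : ∀ (W : D) (i k : ι) (f : W ⟶ U i) (g : W ⟶ U k), j.map f ≫ π i = j.map g ≫ π k)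
  (hcov : Sieve.ofArrows (fun i => j.obj (U i)) π ∈ J T)
  (hlift : ∀ (Z : C) (i k : ι) (g₁ : Z ⟶ j.obj (U i)) (g₂ : Z ⟶ j.obj (U k)), g₁ ≫ π i = g₂ ≫ π k →
    ∃ (W : D) (f : W ⟶ U i) (g : W ⟶ U k) (l : Z ⟶ j.obj W), l ≫ j.map f = g₁ ∧ l ≫ j.map g = g₂)
  (hinj : ∀ (I : Sheaf J AddCommGrpCat.{u}), Injective I → ∀ n : ℕ,
    IsZero (((cxFun j U J).obj I).homology (n + 1)))

/-- `H^0` of the Cech complex is the group of sections. -/
noncomputable def zeroEquiv (F : Sheaf J AddCommGrpCat.{u}) :
    F.obj.obj (op T) ≃+ ((cxFun j U J).obj F).homology 0 :=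
  (@asIso _ _ _ _ (augH j U π hπ F) (isIso_augH j U π hπ hcov hlift F)).addCommGroupIsoToAddEquiv

include π hπ hcov hlift hinj in
/-- Cech cohomology of a family with acyclic finite products is cohomology. -/
theorem nonempty_homology_addEquiv (p : ℕ) (F : Sheaf J AddCommGrpCat.{u}) (h : Acyc j U F) :
    Nonempty (((cxFun j U J).obj F).homology p ≃+ CohSite.HU F p T) := by
  induction p generalizing F with
  | zero => exact ⟨(zeroEquiv j U π hπ hcov hlift F).symm.trans (HU0 F T).symm⟩
  | succ p ih =>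
    have hS := injSES_shortExact F
    have hC := cxShort_shortExact j U hS h
    have hI : ∀ q, IsZero (((cxFun j U J).obj (injSES F).X₂).homology (q + 1)) :=
      hinj _ (Injective.injective_under F)
    have hIext : ∀ (X : Sheaf J AddCommGrpCat.{u}) q,
        Subsingleton (Ext.{u} X (injSES F).X₂ (q + 1)) := fun X q =>
      Ext.subsingleton_of_injective _ _ _
    have hQ : Acyc j U (injSES F).X₃ := fun n a q =>
      @Equiv.subsingleton _ _ (extShift hS (q + 1) (hIext _ q) (hIext _ (q + 1))).toEquiv (h n a (q + 1))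
    cases p with
    | zero =>
      let δ : (injSES F).X₃.obj.obj (op T) →+ ((cxFun j U J).obj F).homology 1 :=
        (hC.δ 0 1 rfl).hom.comp (zeroEquiv j U π hπ hcov hlift (injSES F).X₃).toAddMonoidHom
      let δ' : (injSES F).X₃.obj.obj (op T) →+ Ext.{u} (freeY J T) F 1 :=
        (deltaHom hS).comp (homFreeY (injSES F).X₃ T).symm.toAddMonoidHom
      have h1 : Function.Surjective δ := by
        have : Epi (hC.δ 0 1 rfl) := (hC.homology_exact₁ 0 1 rfl).epi_f ((hI 0).eq_of_tgt _ _)
        exact ((AddCommGrpCat.epi_iff_surjective _).1 this).comp (AddEquiv.surjective _)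
      have h2 : Function.Surjective δ' :=
        (deltaHom_surjective hS (hIext _ 0)).comp (AddEquiv.surjective _)
      have hnat : ∀ t : (injSES F).X₂.obj.obj (op T),
          zeroEquiv j U π hπ hcov hlift (injSES F).X₃ ((injSES F).g.hom.app (op T) t) =
            HomologicalComplex.homologyMap ((cxFun j U J).map (injSES F).g) 0
              (zeroEquiv j U π hπ hcov hlift (injSES F).X₂ t) := fun t =>
        ConcreteCategory.congr_hom (augH_naturality j U π hπ (injSES F).g) t
      have h3 : ∀ x, δ x = 0 ↔ δ' x = 0 := by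
        intro x
        refine Iff.trans ?_ (deltaHom_eq_zero_iff hS _).symm
        change (hC.δ 0 1 rfl) (zeroEquiv j U π hπ hcov hlift _ x) = 0 ↔ _
        constructor
        · intro hx
          obtain ⟨y, hy⟩ := (ShortComplex.ab_exact_iff _).1 (hC.homology_exact₃ 0 1 rfl) _ hx
          obtain ⟨t, rfl⟩ := (zeroEquiv j U π hπ hcov hlift (injSES F).X₂).surjective y
          refine ⟨(homFreeY _ T).symm t, (homFreeY _ T).injective ?_⟩
          rw [homFreeY_comp, AddEquiv.apply_symm_apply]
          refine ((zeroEquiv j U π hπ hcov hlift (injSES F).X₃).injective ?_).trans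
            ((homFreeY _ T).apply_symm_apply x).symm
          exact (hnat t).trans hy
        · rintro ⟨g', hg'⟩
          have hx : x = (injSES F).g.hom.app (op T) (homFreeY _ T g') := by
            rw [← homFreeY_comp, hg']
            exact ((homFreeY _ T).apply_symm_apply x).symm
          rw [hx, hnat]
          exact ConcreteCategory.congr_hom (hC.comp_δ 0 1 rfl) _
      obtain ⟨e, -⟩ := DimShift.exists_equiv_of_ker δ h1 δ' h2 (AddEquiv.refl _) h3
      exact ⟨e.trans (HUext F 1 T).symm⟩
    | succ p =>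
      obtain ⟨e⟩ := ih _ hQ
      have : IsIso (hC.δ (p + 1) (p + 2) rfl) := by
        have : Mono (hC.δ (p + 1) (p + 2) rfl) := hC.mono_δ _ _ rfl (hI p)
        have : Epi (hC.δ (p + 1) (p + 2) rfl) :=
          (hC.homology_exact₁ (p + 1) (p + 2) rfl).epi_f ((hI (p + 1)).eq_of_tgt _ _)
        exact isIso_of_mono_of_epi _
      exact ⟨(asIso (hC.δ (p + 1) (p + 2) rfl)).addCommGroupIsoToAddEquiv.symm.trans
        (e.trans ((HUext _ (p + 1) T).trans
          ((extShift hS (p + 1) (hIext _ p) (hIext _ (p + 1))).trans (HUext F (p + 2) T).symm)))⟩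

end Main

end GrothLib.Cech
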